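import Cfsg.Agent.H802.OC.Base
import Cfsg.Agent.H802.OC.Crit
import Cfsg.Agent.H803.OC.Linear
import Cfsg.Agent.ClassicalGeometry.AutPSL.SylowU
import Cfsg.Agent.S0242
import Cfsg.Agent.S0249

/-!
# The rows `PSL₂(2^f)` and `PSL₃(2^f)` (helper803, for S4063)
-/

set_option autoImplicit false
set_option linter.unusedSectionVars false

namespace Cfsg.Agent.H803.OC.RowPSL

open Subgroup Cfsg.Agent.H802.OC Matrix
open Cfsg.Agent.ClassicalGeometry.AutPSL.SylowU
open Cfsg.Agent.ClassicalGeometry.AutPSL.Root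

variable {F : Type} [Field F] [Fintype F]

/-- Diagonal element of `SL_n`. -/
def dg {n : ℕ} (d : Fin n → F) (hd : ∏ i, d i = 1) : SpecialLinearGroup (Fin n) F :=
  ⟨Matrix.diagonal d, by rw [det_diagonal, hd]⟩

theorem dg_mul_apply {n : ℕ} (d : Fin n → F) (hd : ∏ i, d i = 1) (g : SpecialLinearGroup (Fin n) F) (i j : Fin n) :
    (dg d hd * g).1 i j = d i * g.1 i j := by
  show ((Matrix.diagonal d) * g.1) i j = _
  rw [diagonal_mul]

theorem mul_dg_apply {n : ℕ} (d : Fin n → F) (hd : ∏ i, d i = 1) (g : SpecialLinearGroup (Fin n) F) (i j : Fin n) :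
    (g * dg d hd).1 i j = g.1 i j * d j := by
  show (g.1 * (Matrix.diagonal d)) i j = _
  rw [mul_diagonal]

theorem dg_pow {n : ℕ} (d : Fin n → F) (hd : ∏ i, d i = 1) (k : ℕ) (h : ∀ i, d i ^ k = 1) : dg d hd ^ k = 1 := by
  have h1 : ((dg d hd ^ k : Matrix.SpecialLinearGroup (Fin n) F) : Matrix (Fin n) (Fin n) F) =
      ((1 : Matrix.SpecialLinearGroup (Fin n) F) : Matrix (Fin n) (Fin n) F) := by
    rw [Matrix.SpecialLinearGroup.coe_pow, Matrix.SpecialLinearGroup.coe_one]
    show (Matrix.diagonal d) ^ k = _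
    rw [diagonal_pow]
    have : d ^ k = 1 := funext h
    rw [this]
    exact diagonal_one
  exact Subtype.ext h1

/-- `t u t⁻¹` is unitriangular. -/
theorem conj_mem_upper {n : ℕ} (d : Fin n → F) (hd : ∏ i, d i = 1) {u : SpecialLinearGroup (Fin n) F}
    (hu : u ∈ upper n F) : dg d hd * u * (dg d hd)⁻¹ ∈ upper n F := by
  set v := dg d hd * u * (dg d hd)⁻¹ with hv
  have h1 : v * dg d hd = dg d hd * u := by rw [hv]; group
  have hd0 : ∀ i, d i ≠ 0 := by
    intro i h0
    have : ∏ i, d i = 0 := Finset.prod_eq_zero (Finset.mem_univ i) h0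
    rw [hd] at this
    exact one_ne_zero this
  rw [mem_upper]
  intro i j hij
  have h2 : (v * dg d hd).1 i j = (dg d hd * u).1 i j := by rw [h1]
  rw [mul_dg_apply, dg_mul_apply, mem_upper.1 hu i j hij] at h2
  by_cases h : i = j
  · subst h
    rw [if_pos rfl, mul_one] at h2
    rw [if_pos rfl]
    exact mul_right_cancel₀ (hd0 i) (h2.trans (one_mul _).symm)
  · rw [if_neg h, mul_zero] at h2
    rw [if_neg h]
    exact (mul_eq_zero.1 h2).resolve_right (hd0 j)

theorem eq_one_of_comm {n : ℕ} (d : Fin n → F) (hd : ∏ i, d i = 1) (hinj : Function.Injective d)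
    {u : SpecialLinearGroup (Fin n) F} (hu : u ∈ upper n F) (h : dg d hd * u = u * dg d hd) : u = 1 := by
  apply Matrix.SpecialLinearGroup.ext
  intro i j
  rw [Matrix.SpecialLinearGroup.coe_one]
  by_cases hij : i = j
  · subst hij
    rw [one_apply_eq]
    have := mem_upper.1 hu i i le_rfl
    rwa [if_pos rfl] at this
  · rw [one_apply_ne hij]
    have h2 : (dg d hd * u).1 i j = (u * dg d hd).1 i j := by rw [h]
    rw [dg_mul_apply, mul_dg_apply] at h2
    have h3 : (d i - d j) * u.1 i j = 0 := by linear_combination h2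
    exact (mul_eq_zero.1 h3).resolve_left (sub_ne_zero.2 (fun h => hij (hinj h)))

/-- Criterion: a diagonal matrix with distinct entries of order a power of an odd prime. -/
theorem noOuter_of_diag {n : ℕ} (h2 : (2 : F) = 0) (r : ℕ) [Fact r.Prime] (hr : r ≠ 2) (d : Fin n → F)
    (hd : ∏ i, d i = 1) (hinj : Function.Injective d) (k : ℕ) (hk : ∀ i, d i ^ (r ^ k) = 1) :
    NoOuter (ProjectiveSpecialLinearGroup (Fin n) F) := by
  classical
  have hc : CharP F 2 := CharTwo.of_one_ne_zero_of_two_eq_zero one_ne_zero h2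
  have : Fact (Nat.Prime 2) := ⟨Nat.prime_two⟩
  obtain ⟨P, hP⟩ := exists_sylow (F := F) n 2
  set t : SpecialLinearGroup (Fin n) F := dg d hd with ht
  have htN : pr t ∈ normalizer ((P : Subgroup (ProjectiveSpecialLinearGroup (Fin n) F)) :
      Set (ProjectiveSpecialLinearGroup (Fin n) F)) := by
    rw [← inv_mem_iff]
    rw [mem_normalizer_iff]
    have key : ∀ x, x ∈ (P : Subgroup (ProjectiveSpecialLinearGroup (Fin n) F)) →
        pr t * x * (pr t)⁻¹ ∈ (P : Subgroup (ProjectiveSpecialLinearGroup (Fin n) F)) := by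
      intro x hx
      rw [hP] at hx ⊢
      obtain ⟨u, hu, rfl⟩ := hx
      refine ⟨t * u * t⁻¹, conj_mem_upper d hd hu, ?_⟩
      rw [map_mul, map_mul, map_inv]
    intro x
    constructor
    · intro hx
      -- finite: conjugation by `t` is a bijection of `P`
      have hfin : ∀ m : ℕ, ∀ x, x ∈ (P : Subgroup (ProjectiveSpecialLinearGroup (Fin n) F)) →
          (pr t) ^ m * x * ((pr t) ^ m)⁻¹ ∈ (P : Subgroup (ProjectiveSpecialLinearGroup (Fin n) F)) := by
        intro m
        induction m with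
        | zero => intro x hx; simpa using hx
        | succ m ih =>
          intro x hx
          have := key _ (ih x hx)
          rwa [show pr t * (pr t ^ m * x * (pr t ^ m)⁻¹) * (pr t)⁻¹ = pr t ^ (m + 1) * x * (pr t ^ (m + 1))⁻¹ by
            rw [pow_succ']; group] at this
      have h3 : (pr t)⁻¹ = pr t ^ (orderOf (pr t) - 1) := by
        rw [inv_eq_iff_mul_eq_one, ← pow_succ', Nat.sub_add_cancel (orderOf_pos _), pow_orderOf_eq_one]
      rw [h3]
      exact hfin _ x hx
    · intro hx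
      have := key _ hx
      rwa [show pr t * ((pr t)⁻¹ * x * (pr t)⁻¹⁻¹) * (pr t)⁻¹ = x by group] at this
  set t' : ↥(normalizer ((P : Subgroup (ProjectiveSpecialLinearGroup (Fin n) F)) :
      Set (ProjectiveSpecialLinearGroup (Fin n) F))) := ⟨pr t, htN⟩ with ht'
  have htp : t' ^ (r ^ k) = 1 := by
    apply Subtype.ext
    show (pr t) ^ (r ^ k) = 1
    rw [← map_pow, ht, dg_pow d hd _ hk, map_one]
  have hpg : IsPGroup r (zpowers t') := by
    rw [IsPGroup.iff_card]
    rw [Nat.card_zpowers]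
    exact (Nat.dvd_prime_pow (Fact.out : r.Prime)).1 (orderOf_dvd_of_pow_eq_one htp) |>.imp fun _ h => h.2
  obtain ⟨R, hR⟩ := hpg.exists_le_sylow
  refine noOuter_of_two P r hr R ?_
  intro x hx hcomm
  have h4 := hcomm t' (hR (mem_zpowers t'))
  rw [hP] at hx
  obtain ⟨u, hu, rfl⟩ := hx
  have h5 : pr (t * u) = pr (u * t) := by
    rw [map_mul, map_mul]
    exact h4
  have h6 : t * u * t⁻¹ ∈ upper n F := conj_mem_upper d hd hu
  have h7 : pr (t * u * t⁻¹) = pr u := by
    rw [map_mul, h5, ← map_mul]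
    congr 1
    group
  have h8 : t * u * t⁻¹ = u := pr_injOn_upper h6 hu h7
  have h9 : t * u = u * t := by rw [mul_inv_eq_iff_eq_mul] at h8; exact h8
  rw [eq_one_of_comm d hd hinj hu h9, map_one]

theorem card_pos_two (h2 : (2 : F) = 0) : Even (Fintype.card F) := by
  have hc : CharP F 2 := CharTwo.of_one_ne_zero_of_two_eq_zero one_ne_zero h2
  obtain ⟨k, -, hk⟩ := FiniteField.card F 2
  rw [hk]
  exact (Nat.even_pow.2 ⟨even_two, k.pos.ne'⟩)

/-- For `q ≥ 4` even there are a prime `r ≥ 5` dividing `q² - 1`. -/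
theorem exists_five {q : ℕ} (hq : Even q) (h4 : 4 ≤ q) : ∃ r : ℕ, r.Prime ∧ 5 ≤ r ∧ r ∣ q ^ 2 - 1 := by
  have key : ∀ m : ℕ, 1 < m → ¬ 2 ∣ m → ¬ 3 ∣ m → ∃ r : ℕ, r.Prime ∧ 5 ≤ r ∧ r ∣ m := by
    intro m hm h2 h3
    refine ⟨m.minFac, Nat.minFac_prime hm.ne', ?_, m.minFac_dvd⟩
    have hp := Nat.minFac_prime hm.ne'
    have hd := m.minFac_dvd
    by_contra hlt
    rw [not_le] at hlt
    have h5 : m.minFac = 2 ∨ m.minFac = 3 := by
      have := hp.two_le
      interval_cases h : m.minFac
      · left; rfl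
      · right; rfl
      · exact absurd hp (by norm_num)
    rcases h5 with h | h
    · exact h2 (h ▸ hd)
    · exact h3 (h ▸ hd)
  have hfac : q ^ 2 - 1 = (q + 1) * (q - 1) := by
    have := Nat.sq_sub_sq q 1
    simpa using this
  obtain ⟨s, hs⟩ := hq
  by_cases h3 : 3 ∣ q - 1
  · obtain ⟨r, hr, h5, hd⟩ := key (q + 1) (by omega) (by omega) (by omega)
    exact ⟨r, hr, h5, hfac ▸ hd.mul_right _⟩
  · obtain ⟨r, hr, h5, hd⟩ := key (q - 1) (by omega) (by omega) h3
    exact ⟨r, hr, h5, hfac ▸ hd.mul_left _⟩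

/-- A prime divisor of the order of the centre of `SL_n` divides `n`. -/
theorem dvd_of_center {n : ℕ} {r : ℕ} (hr : r.Prime)
    (hd : r ∣ Nat.card (center (SpecialLinearGroup (Fin n) F))) : r ≤ n ∨ n = 0 := by
  have : Fact r.Prime := ⟨hr⟩
  obtain ⟨z, hz⟩ := exists_prime_orderOf_dvd_card' r hd
  obtain ⟨a, ha1, ha⟩ := Matrix.SpecialLinearGroup.mem_center_iff.1 z.2
  rcases Nat.eq_zero_or_pos n with h | h
  · exact Or.inr h
  left
  have h1 : z ^ n = 1 := by
    apply Subtype.ext
    apply Subtype.ext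
    have h3 : (((z : Matrix.SpecialLinearGroup (Fin n) F) ^ n : Matrix.SpecialLinearGroup (Fin n) F) :
        Matrix (Fin n) (Fin n) F) = ((1 : Matrix.SpecialLinearGroup (Fin n) F) : Matrix (Fin n) (Fin n) F) := by
      rw [Matrix.SpecialLinearGroup.coe_pow, ← ha, ← map_pow]
      rw [Fintype.card_fin] at ha1
      rw [ha1, map_one, Matrix.SpecialLinearGroup.coe_one]
    exact h3
  have h2 := orderOf_dvd_of_pow_eq_one h1
  rw [hz] at h2
  exact Nat.le_of_dvd h h2

theorem not_isOC {n : ℕ} (hn : 2 ≤ n) (hn3 : n ≤ 3) (r : ℕ) (hr : r.Prime) (h5 : 5 ≤ r)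
    (hd : r ∣ Nat.card (SpecialLinearGroup (Fin n) F)) (h2 : (2 : F) = 0) :
    ¬ IsOC (ProjectiveSpecialLinearGroup (Fin n) F) := by
  have hc : CharP F 2 := CharTwo.of_one_ne_zero_of_two_eq_zero one_ne_zero h2
  have hker : (QuotientGroup.mk' (center (SpecialLinearGroup (Fin n) F))).ker = center (SpecialLinearGroup (Fin n) F) :=
    QuotientGroup.ker_mk' _
  have hk : ¬ r ∣ Nat.card (center (SpecialLinearGroup (Fin n) F)) := by
    intro h
    rcases dvd_of_center hr h with h | h <;> omega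
  refine not_isOC_of_linear (K := SpecialLinearGroup (Fin n) F) (F := F) (n := n) SpecialLinearGroup.toGL
    SpecialLinearGroup.toGL_injective (QuotientGroup.mk' (center (SpecialLinearGroup (Fin n) F)))
    (QuotientGroup.mk'_surjective _) hker.le r hr ?_ (by rw [hker]; exact hk) ?_ (by omega)
  · have h3 : Nat.card (SpecialLinearGroup (Fin n) F) =
        Nat.card (ProjectiveSpecialLinearGroup (Fin n) F) * Nat.card (center (SpecialLinearGroup (Fin n) F)) :=
      Subgroup.card_eq_card_quotient_mul_card_subgroup _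
    rw [h3] at hd
    exact (hr.dvd_mul.1 hd).resolve_right hk
  · intro h
    have h3 := (CharP.cast_eq_zero_iff F 2 r).1 h
    have h4 := (Nat.prime_dvd_prime_iff_eq Nat.prime_two hr).1 h3
    omega

theorem card_SL2 : Nat.card (SpecialLinearGroup (Fin 2) F) =
    Fintype.card F * (Fintype.card F ^ 2 - 1) := by
  have h1 := S0242.result (F := F) rfl 2 (by norm_num)
  have hq : 2 ≤ Fintype.card F := Fintype.one_lt_card
  rw [Fin.prod_univ_two] at h1
  have h3 : Fintype.card F ^ 2 - Fintype.card F ^ 1 = (Fintype.card F - 1) * Fintype.card F := by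
    rw [Nat.sub_mul, one_mul, pow_one, sq]
  simp only [Fin.val_zero, Fin.val_one, pow_zero] at h1
  rw [h3] at h1
  have h4 : (Fintype.card F - 1) * Nat.card (SpecialLinearGroup (Fin 2) F) =
      (Fintype.card F - 1) * (Fintype.card F * (Fintype.card F ^ 2 - 1)) := by rw [h1]; ring
  exact Nat.eq_of_mul_eq_mul_left (by omega) h4

theorem card_SL3 : Nat.card (SpecialLinearGroup (Fin 3) F) =
    Fintype.card F ^ 3 * (Fintype.card F ^ 2 - 1) * (Fintype.card F ^ 3 - 1) := by
  have h1 := S0242.result (F := F) rfl 3 (by norm_num)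
  have hq : 2 ≤ Fintype.card F := Fintype.one_lt_card
  rw [Fin.prod_univ_three] at h1
  have h3 : Fintype.card F ^ 3 - Fintype.card F ^ 1 = (Fintype.card F ^ 2 - 1) * Fintype.card F := by
    rw [Nat.sub_mul, one_mul, pow_one]; congr 1
  have h3' : Fintype.card F ^ 3 - Fintype.card F ^ 2 = (Fintype.card F - 1) * Fintype.card F ^ 2 := by
    rw [Nat.sub_mul, one_mul]; congr 1; ring
  simp only [Fin.val_zero, Fin.val_one, Fin.val_two, pow_zero] at h1
  rw [h3, h3'] at h1
  have h4 : (Fintype.card F - 1) * Nat.card (SpecialLinearGroup (Fin 3) F) =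
      (Fintype.card F - 1) * (Fintype.card F ^ 3 * (Fintype.card F ^ 2 - 1) * (Fintype.card F ^ 3 - 1)) := by
    rw [h1]; ring
  exact Nat.eq_of_mul_eq_mul_left (by omega) h4

/-- A field element of odd prime order. -/
theorem exists_elem (h2 : (2 : F) = 0) (h4 : 4 ≤ Fintype.card F) :
    ∃ (r : ℕ) (_ : Fact r.Prime) (a : F), r ≠ 2 ∧ a ^ r = 1 ∧ a ≠ 1 ∧ a ^ 2 ≠ 1 ∧ a ≠ 0 := by
  classical
  have he := card_pos_two h2
  have hcard : Nat.card Fˣ = Fintype.card F - 1 := by rw [Nat.card_eq_fintype_card, Fintype.card_units]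
  obtain ⟨s, hs⟩ := he
  have hne : Fintype.card F - 1 ≠ 1 := by omega
  set r := (Fintype.card F - 1).minFac with hr
  have hrp : r.Prime := Nat.minFac_prime hne
  have hd : r ∣ Fintype.card F - 1 := Nat.minFac_dvd _
  have hr2 : r ≠ 2 := by
    intro h
    rw [h] at hd
    omega
  have hf : Fact r.Prime := ⟨hrp⟩
  obtain ⟨u, hu⟩ := exists_prime_orderOf_dvd_card' (G := Fˣ) r (hcard ▸ hd)
  refine ⟨r, hf, (u : F), hr2, ?_, ?_, ?_, u.ne_zero⟩
  · rw [← Units.val_pow_eq_pow_val, ← hu, pow_orderOf_eq_one, Units.val_one]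
  · intro h
    have : u = 1 := Units.ext h
    rw [this, orderOf_one] at hu
    exact hrp.one_lt.ne hu
  · intro h
    have h3 : u ^ 2 = 1 := Units.ext (by rw [Units.val_pow_eq_pow_val, h, Units.val_one])
    have h4 := orderOf_dvd_of_pow_eq_one h3
    rw [hu] at h4
    exact hr2 ((Nat.prime_dvd_prime_iff_eq hrp Nat.prime_two).1 h4)

theorem noOuter_two (h2 : (2 : F) = 0) (h4 : 4 ≤ Fintype.card F) : NoOuter (ProjectiveSpecialLinearGroup (Fin 2) F) := by
  obtain ⟨r, hf, a, hr2, har, ha1, ha2, ha0⟩ := exists_elem h2 h4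
  refine noOuter_of_diag h2 r hr2 ![a, a⁻¹] (by simp [ha0]) ?_ 1 ?_
  · intro i j hij
    fin_cases i <;> fin_cases j <;> first | rfl | skip
    · exfalso
      have h : a = a⁻¹ := by simpa using hij
      exact ha2 (by rw [sq]; nth_rewrite 2 [h]; exact mul_inv_cancel₀ ha0)
    · exfalso
      have h : a⁻¹ = a := by simpa using hij
      exact ha2 (by rw [sq]; nth_rewrite 2 [← h]; exact mul_inv_cancel₀ ha0)
  · intro i
    rw [pow_one]
    fin_cases i
    · exact har
    · show (a⁻¹) ^ r = 1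
      rw [inv_pow, har, inv_one]

theorem noOuter_three (h2 : (2 : F) = 0) (h4 : 4 ≤ Fintype.card F) :
    NoOuter (ProjectiveSpecialLinearGroup (Fin 3) F) := by
  obtain ⟨r, hf, a, hr2, har, ha1, ha2, ha0⟩ := exists_elem h2 h4
  have hi1 : a⁻¹ ≠ 1 := fun h => ha1 (inv_eq_one.1 h)
  have hia : a ≠ a⁻¹ := fun h => ha2 (by rw [sq]; nth_rewrite 2 [h]; exact mul_inv_cancel₀ ha0)
  refine noOuter_of_diag h2 r hr2 ![a, 1, a⁻¹] (by simp [Fin.prod_univ_three, ha0]) ?_ 1 ?_
  · intro i j hij
    fin_cases i <;> fin_cases j <;> first | rfl | skip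
    · exact absurd (by simpa using hij) ha1
    · exact absurd (by simpa using hij) hia
    · exact absurd (by simpa using hij.symm) ha1
    · exact absurd (by simpa using hij.symm) hi1
    · exact absurd (by simpa using hij.symm) hia
    · exact absurd (by simpa using hij) hi1
  · intro i
    rw [pow_one]
    fin_cases i
    · exact har
    · exact one_pow r
    · show (a⁻¹) ^ r = 1
      rw [inv_pow, har, inv_one]

/-- The group `PSL₃(2)` of order `168`. -/
theorem row_small (hF : Fintype.card F = 2) : Row (ProjectiveSpecialLinearGroup (Fin 3) F) := by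
  classical
  have hS := S0249.result (F := F) 3 le_rfl
  have hSL : Nat.card (SpecialLinearGroup (Fin 3) F) = 168 := by rw [card_SL3, hF]; norm_num
  have hcen : Nat.card (center (SpecialLinearGroup (Fin 3) F)) = 1 := by
    rw [Subgroup.card_eq_one, eq_bot_iff]
    intro z hz
    obtain ⟨a, ha1, ha⟩ := Matrix.SpecialLinearGroup.mem_center_iff.1 hz
    have ha0 : a ≠ 0 := by
      rintro rfl
      rw [Fintype.card_fin] at ha1
      norm_num at ha1
    have ha2 : a = 1 := by
      have := FiniteField.pow_card_sub_one_eq_one a ha0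
      rw [hF] at this
      simpa using this
    rw [Subgroup.mem_bot]
    have h3 : ((z : Matrix.SpecialLinearGroup (Fin 3) F) : Matrix (Fin 3) (Fin 3) F) =
        ((1 : Matrix.SpecialLinearGroup (Fin 3) F) : Matrix (Fin 3) (Fin 3) F) := by
      rw [← ha, ha2, map_one, Matrix.SpecialLinearGroup.coe_one]
    exact Subtype.ext h3
  have hcard : Nat.card (ProjectiveSpecialLinearGroup (Fin 3) F) = 168 := by
    have h3 : Nat.card (SpecialLinearGroup (Fin 3) F) =
        Nat.card (ProjectiveSpecialLinearGroup (Fin 3) F) * Nat.card (center (SpecialLinearGroup (Fin 3) F)) :=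
      Subgroup.card_eq_card_quotient_mul_card_subgroup _
    rw [hSL, hcen, mul_one] at h3
    exact h3.symm
  have : Fact (Nat.Prime 7) := ⟨by norm_num⟩
  obtain ⟨P⟩ : Nonempty (Sylow 7 (ProjectiveSpecialLinearGroup (Fin 3) F)) := inferInstance
  refine row_of_odd_normalizer 7 (by norm_num) (by rw [hcard]; norm_num) P ?_
  have hPc : Nat.card P = 7 := by
    rw [P.card_eq_multiplicity, hcard]
    have : (168 : ℕ).factorization 7 = 1 := by
      rw [show (168 : ℕ) = 24 * 7 by norm_num, Nat.factorization_mul (by norm_num) (by norm_num)]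
      rw [Finsupp.add_apply, Nat.factorization_eq_zero_of_not_dvd (by norm_num : ¬ 7 ∣ 24)]
      rw [Nat.Prime.factorization_self (by norm_num)]
    rw [this, pow_one]
  have hn : Nat.card (Sylow 7 (ProjectiveSpecialLinearGroup (Fin 3) F)) = (normalizer (P : Set (ProjectiveSpecialLinearGroup (Fin 3) F))).index :=
    P.card_eq_index_normalizer
  have hmod := card_sylow_modEq_one 7 (ProjectiveSpecialLinearGroup (Fin 3) F)
  have hle : (P : Subgroup (ProjectiveSpecialLinearGroup (Fin 3) F)) ≤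
      normalizer ((P : Subgroup (ProjectiveSpecialLinearGroup (Fin 3) F)) : Set (ProjectiveSpecialLinearGroup (Fin 3) F)) :=
    le_normalizer
  set N := normalizer ((P : Subgroup (ProjectiveSpecialLinearGroup (Fin 3) F)) : Set (ProjectiveSpecialLinearGroup (Fin 3) F)) with hN
  have h7 : 7 ∣ Nat.card N := by
    have := Subgroup.card_dvd_of_le hle
    rwa [show Nat.card (P : Subgroup (ProjectiveSpecialLinearGroup (Fin 3) F)) = 7 from hPc] at this
  have hmul : Nat.card N * N.index = 168 := by rw [Subgroup.card_mul_index, hcard]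
  have hn' : Nat.card (Sylow 7 (ProjectiveSpecialLinearGroup (Fin 3) F)) = N.index := hn
  rw [hn'] at hmod
  intro h2
  obtain ⟨a, ha⟩ := h7
  have h3 : N.index ≠ 1 := by
    intro h1
    have hNt : N = ⊤ := Subgroup.index_eq_one.1 h1
    have hPn : (P : Subgroup (ProjectiveSpecialLinearGroup (Fin 3) F)).Normal := normalizer_eq_top_iff.1 hNt
    rcases hS.eq_bot_or_eq_top_of_normal _ hPn with h | h
    · have : Nat.card (P : Subgroup (ProjectiveSpecialLinearGroup (Fin 3) F)) = 1 := by rw [h]; simp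
      rw [show Nat.card (P : Subgroup (ProjectiveSpecialLinearGroup (Fin 3) F)) = 7 from hPc] at this
      omega
    · have : Nat.card (P : Subgroup (ProjectiveSpecialLinearGroup (Fin 3) F)) = 168 := by
        rw [h, Subgroup.card_top, hcard]
      rw [show Nat.card (P : Subgroup (ProjectiveSpecialLinearGroup (Fin 3) F)) = 7 from hPc] at this
      omega
  have h4 : a * N.index = 24 := by
    rw [ha] at hmul
    have : 7 * (a * N.index) = 7 * 24 := by rw [← mul_assoc, hmul]
    exact Nat.eq_of_mul_eq_mul_left (by norm_num) this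
  have h5 : N.index ∣ 24 := Dvd.intro_left a h4
  have h6 : N.index ≤ 24 := Nat.le_of_dvd (by norm_num) h5
  have h8 : N.index = 8 := by
    have h9 : N.index % 7 = 1 := hmod
    have h10 : N.index = 8 ∨ N.index = 15 ∨ N.index = 22 := by omega
    rcases h10 with h | h | h
    · exact h
    · rw [h] at h5; norm_num at h5
    · rw [h] at h5; norm_num at h5
  rw [h8] at h4
  rw [ha] at h2
  omega

end Cfsg.Agent.H803.OC.RowPSL

namespace Cfsg.Agent.H803.OC

open Cfsg.Agent.H802.OC RowPSL

/-- The rows `PSL₂(q)` (`q ≥ 4` even) and `PSL₃(q)` (`q` even). -/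
theorem row_psl_even (F : Type) [Field F] [Fintype F] (h2 : (2 : F) = 0) (n : ℕ)
    (hn : (n = 2 ∧ 4 ≤ Fintype.card F) ∨ n = 3) : Row (Matrix.ProjectiveSpecialLinearGroup (Fin n) F) := by
  have he := card_pos_two h2
  rcases hn with ⟨rfl, h4⟩ | rfl
  · obtain ⟨r, hr, h5, hd⟩ := exists_five he h4
    exact row_of_noOuter (noOuter_two h2 h4) (not_isOC le_rfl (by norm_num) r hr h5
      (by rw [card_SL2]; exact hd.mul_left _) h2)
  · by_cases h4 : 4 ≤ Fintype.card F
    · obtain ⟨r, hr, h5, hd⟩ := exists_five he h4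
      exact row_of_noOuter (noOuter_three h2 h4) (not_isOC (by norm_num) le_rfl r hr h5
        (by rw [card_SL3]; exact (hd.mul_left _).mul_right _) h2)
    · apply row_small
      have h1 : 2 ≤ Fintype.card F := Fintype.one_lt_card
      obtain ⟨s, hs⟩ := he
      omega

end Cfsg.Agent.H803.OC
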